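import Cfsg.Agent.H62.Spr.U62Main

/-!
# S3938 (3/2-generation), `PSU_6(2)`: the theorem over `F₄` (helper62, task 4834)
-/

set_option autoImplicit false
set_option maxRecDepth 100000
set_option linter.unusedSectionVars false

namespace Cfsg.Agent.H62.Spr.U62

open Cfsg Matrix Cfsg.Agent.SporadicA.FieldFour F4 Cfsg.Agent.LieClassical.HermBasic
  Cfsg.Agent.LieClassical.HermSiegel Cfsg.Agent.LieClassical.HermGen Cfsg.Agent.ClassicalGeometry.UnitAutBasic
  Cfsg.Agent.ClassicalGeometry.PSUAutCount Cfsg.Agent.ClassicalGeometry.HermOrtho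
open Cfsg.Agent.H852.USixElts (M6 st mk hF frob det_one_of_pow)
open Cfsg.Agent.H424.Spr (Spr)

/-- the semilinear map -/
def Bm (A : Cfsg.GU 6 F4 2) (ρ : F4 ≃+* F4) (x : Fin 6 → F4) : Fin 6 → F4 := gm A *ᵥ fun i => ρ (x i)

/-- the first case: a singular vector not orthogonal to its image -/
theorem case_one {A : Cfsg.GU 6 F4 2} {ρ : F4 ≃+* F4} {f : Fin 6 → F4} (hf : hermForm 6 F4 2 f f = 0)
    (hfB : hermForm 6 F4 2 f (Bm A ρ f) ≠ 0) :
    ∃ x : PSU 6 F4 2, ∀ K : Subgroup (PSU 6 F4 2), x ∈ K → (∀ k ∈ K, toAut A ρ k ∈ K) → K = ⊤ := by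
  have hB : hermForm 6 F4 2 (Bm A ρ f) (Bm A ρ f) = 0 := by
    rw [Bm, herm_semi, hf, map_zero]
  set h := hermForm 6 F4 2 f (Bm A ρ f) with hh
  have h1 : hermForm 6 F4 2 f (h • Bm A ρ f) = 1 := by
    rw [herm_smul_right, ← hh, mul_comm]
    exact cube_one hfB
  have h2 : hermForm 6 F4 2 (h • Bm A ρ f) (h • Bm A ρ f) = 0 := iso_smul h hB
  obtain ⟨g, -, hg1, hg2⟩ := exists_map_hyp hF (k := 6) (by norm_num) le_rfl (mem_coordSub_top f0)
    (mem_coordSub_top g0) (mem_coordSub_top f) (mem_coordSub_top (h • Bm A ρ f)) f0_iso g0_iso f0_g0 hf h2 h1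
  refine ⟨pr 6 F4 2 g * pr 6 F4 2 x1 * (pr 6 F4 2 g)⁻¹, fun K hx hK => ?_⟩
  have e1 : tau hF f ∈ K := by
    rw [← hg1, ← conj_tau hF g f0_iso, tau_f0]
    have : pr 6 F4 2 g * pr 6 F4 2 x1 ^ 5 * (pr 6 F4 2 g)⁻¹ =
        (pr 6 F4 2 g * pr 6 F4 2 x1 * (pr 6 F4 2 g)⁻¹) ^ 5 := (conj_pow).symm
    rw [this]
    exact pow_mem hx 5
  have e2 : tau hF (h • Bm A ρ f) ∈ K := by
    obtain ⟨r, hr0, hr⟩ := exists_r hF ρ
    have := hK _ e1
    rw [toAut_tau hF A ρ hr hf] at this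
    rw [tau_smul hB hfB]
    change tau hF (r • Bm A ρ f) ∈ K at this
    rwa [tau_smul hB hr0] at this
  have e3 : K.comap (MulAut.conj (pr 6 F4 2 g)).toMonoidHom = ⊤ := by
    apply gen1
    · exact hx
    · change pr 6 F4 2 g * tau hF g0 * (pr 6 F4 2 g)⁻¹ ∈ K
      rw [conj_tau hF g g0_iso, hg2]
      exact e2
  rw [eq_top_iff]
  intro y _
  have e4 : (pr 6 F4 2 g)⁻¹ * y * pr 6 F4 2 g ∈ K.comap (MulAut.conj (pr 6 F4 2 g)).toMonoidHom := by
    rw [e3]; trivial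
  have e5 : pr 6 F4 2 g * ((pr 6 F4 2 g)⁻¹ * y * pr 6 F4 2 g) * (pr 6 F4 2 g)⁻¹ ∈ K := e4
  have e6 : pr 6 F4 2 g * ((pr 6 F4 2 g)⁻¹ * y * pr 6 F4 2 g) * (pr 6 F4 2 g)⁻¹ = y := by group
  rwa [e6] at e5

theorem rho_cases (ρ : F4 ≃+* F4) : (∀ a, ρ a = a) ∨ ∀ a, ρ a = a ^ 2 := by
  have h0 : ρ z = z := map_zero ρ
  have h1 : ρ o = o := map_one ρ
  have h2 : ρ w ≠ z := fun h => absurd (ρ.injective (h.trans h0.symm)) (by decide)
  have h3 : ρ w ≠ o := fun h => absurd (ρ.injective (h.trans h1.symm)) (by decide)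
  have h4 : ρ v = ρ w ^ 2 := by rw [← map_pow]; rfl
  rcases hw : ρ w with _ | _ | _ | _
  · exact absurd hw h2
  · exact absurd hw h3
  · left
    rw [hw] at h4
    intro a
    cases a
    · exact h0
    · exact h1
    · exact hw
    · exact h4
  · right
    rw [hw] at h4
    intro a
    cases a
    · exact h0
    · exact h1
    · exact hw
    · exact h4

/-- the vector `e_i + c e_j` -/
def eij (i j : Fin 6) (c : F4) : Fin 6 → F4 := Pi.single i 1 + c • Pi.single j 1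

theorem eij_iso {i j : Fin 6} (hij : i ≠ j) {c : F4} (hc : c ≠ 0) : hermForm 6 F4 2 (eij i j c) (eij i j c) = 0 := by
  rw [eij, herm_add_left, herm_add_right hF, herm_add_right hF, herm_smul_left, herm_smul_left,
    herm_smul_right, herm_smul_right, herm_single_left, herm_single_left, herm_single_left,
    herm_single_left, Pi.single_eq_same, Pi.single_eq_of_ne hij, Pi.single_eq_same, Pi.single_eq_of_ne hij.symm]
  revert c
  decide

theorem Bm_eij (A : Cfsg.GU 6 F4 2) (ρ : F4 ≃+* F4) (i j : Fin 6) (c : F4) (k : Fin 6) :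
    Bm A ρ (eij i j c) k = gm A k i + ρ c * gm A k j := by
  have h1 : (fun i' => ρ (eij i j c i')) = Pi.single i 1 + ρ c • Pi.single j 1 := by
    funext i'
    rw [eij, Pi.add_apply, Pi.add_apply, Pi.smul_apply, Pi.smul_apply, map_add, smul_eq_mul, map_mul,
      smul_eq_mul]
    congr 1
    · rcases eq_or_ne i' i with rfl | hi
      · rw [Pi.single_eq_same, map_one]
      · rw [Pi.single_eq_of_ne hi, map_zero]
    · congr 1
      rcases eq_or_ne i' j with rfl | hi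
      · rw [Pi.single_eq_same, map_one]
      · rw [Pi.single_eq_of_ne hi, map_zero]
  rw [Bm, h1, mulVec_add, mulVec_smul, mulVec_single_one, mulVec_single_one, Pi.add_apply,
    Pi.smul_apply, smul_eq_mul]
  rfl

theorem herm_eij (A : Cfsg.GU 6 F4 2) (ρ : F4 ≃+* F4) {i j : Fin 6} (c : F4) :
    hermForm 6 F4 2 (eij i j c) (Bm A ρ (eij i j c)) =
      (gm A i i + ρ c * gm A i j) ^ 2 + c * (gm A j i + ρ c * gm A j j) ^ 2 := by
  have : eij i j c = Pi.single i 1 + c • Pi.single j 1 := rfl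
  conv_lhs => rw [this, herm_add_left, herm_smul_left, herm_single_left, herm_single_left, ← this]
  rw [Bm_eij, Bm_eij, one_mul, one_mul]

theorem lin_case : ∀ a b c d : F4, (∀ l : F4, l ≠ 0 → (a + l * b) ^ 2 + l * (c + l * d) ^ 2 = 0) →
    b = 0 ∧ c = 0 ∧ a = d := by decide +kernel

theorem semi_case : ∀ a b c d : F4, (∀ l : F4, l ≠ 0 → (a + l ^ 2 * b) ^ 2 + l * (c + l ^ 2 * d) ^ 2 = 0) →
    a = 0 ∧ b = c ∧ d = 0 := by decide +kernel

/-- the linear case -/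
theorem one_of_lin {A : Cfsg.GU 6 F4 2} {ρ : F4 ≃+* F4} (hρ : ∀ a, ρ a = a)
    (h : ∀ f, hermForm 6 F4 2 f f = 0 → hermForm 6 F4 2 f (Bm A ρ f) = 0) : toAut A ρ = 1 := by
  have h1 : ∀ i j : Fin 6, i ≠ j → gm A i j = 0 ∧ gm A j i = 0 ∧ gm A i i = gm A j j := by
    intro i j hij
    apply lin_case
    intro l hl
    have := h _ (eij_iso hij hl)
    rwa [herm_eij, hρ] at this
  have h2 : ∀ x : Fin 6 → F4, gm A *ᵥ x = gm A 0 0 • x := by
    intro x
    have h3 : gm A = gm A 0 0 • (1 : M6) := by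
      ext i j
      rw [Matrix.smul_apply, smul_eq_mul]
      rcases eq_or_ne i j with rfl | hij
      · rw [Matrix.one_apply_eq, mul_one]
        rcases eq_or_ne i 0 with rfl | hi
        · rfl
        · exact (h1 i 0 hi).2.2
      · rw [Matrix.one_apply_ne hij, mul_zero, (h1 i j hij).1]
    rw [h3, smul_mulVec, one_mulVec]
    congr 1
    rw [Matrix.smul_apply, Matrix.one_apply_eq, smul_eq_mul, mul_one]
  have hc : gm A 0 0 ≠ 0 := by
    intro h0
    have h3 := gm_inv_mulVec A (Pi.single 0 1)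
    rw [h2, h0, zero_smul, mulVec_zero] at h3
    have := congrFun h3 0
    rw [Pi.single_eq_same] at this
    exact zero_ne_one this
  ext x
  obtain ⟨g, rfl⟩ := pr_surjective x
  rw [toAut_pr, MulAut.one_apply]
  congr 1
  apply ext_act
  intro y
  have h4 := act_semiConj A ρ g ((gm A 0 0)⁻¹ • y)
  have h5 : ∀ x : Fin 6 → F4, (fun i => ρ (x i)) = x := fun x => funext fun i => hρ _
  rw [h5, h5, h2, h2, smul_smul, mul_inv_cancel₀ hc, one_smul, act_smul, smul_smul, mul_inv_cancel₀ hc,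
    one_smul] at h4
  exact h4

/-! ### the graph case -/

/-- in at most five orthonormal vectors there is another one -/
theorem exists_perp {ι : Type} [Fintype ι] [DecidableEq ι] (hι : Fintype.card ι < 6) {b : ι → (Fin 6 → F4)}
    (hb : ∀ i j, hermForm 6 F4 2 (b i) (b j) = if i = j then 1 else 0) :
    ∃ u, hermForm 6 F4 2 u u = 1 ∧ ∀ i, hermForm 6 F4 2 u (b i) = 0 := by
  have h1 : LinearMap.ker (LinearMap.pi fun i => hL 6 2 (b i) : (Fin 6 → F4) →ₗ[F4] (ι → F4)) ≠ ⊥ := by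
    apply LinearMap.ker_ne_bot_of_finrank_lt
    rw [Module.finrank_fintype_fun_eq_card, Module.finrank_fintype_fun_eq_card, Fintype.card_fin]
    exact hι
  have h2 : ∀ u, u ∈ hermPerp 2 (Set.range b) ↔ ∀ i, hermForm 6 F4 2 u (b i) = 0 := by
    intro u
    rw [mem_hermPerp]
    constructor
    · intro h i
      exact h _ ⟨i, rfl⟩
    · rintro h _ ⟨i, rfl⟩
      exact h i
  obtain ⟨u, hu, huu⟩ := exists_norm_one_vector hF (hermPerp 2 (Set.range b)) (by
    intro u hu h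
    refine herm_nondeg hF fun x => ?_
    have h3 : x - ∑ i, hermForm 6 F4 2 x (b i) • b i ∈ hermPerp 2 (Set.range b) := by
      rw [h2]
      intro i
      rw [herm_sub_left]
      have : hermForm 6 F4 2 (∑ j, hermForm 6 F4 2 x (b j) • b j) (b i) = hermForm 6 F4 2 x (b i) := by
        rw [herm_sum_left]
        simp only [herm_smul_left, hb]
        simp
      rw [this, sub_self]
    have h4 := h _ h3
    rw [herm_sub_right hF, herm_sum_right hF] at h4
    simp only [herm_smul_right, (h2 u).1 hu, mul_zero, Finset.sum_const_zero, sub_zero] at h4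
    exact h4) (by
    intro hbot
    obtain ⟨y, hy, hy0⟩ := (Submodule.ne_bot_iff _).1 h1
    apply hy0
    have : y ∈ hermPerp 2 (Set.range b) := by
      rw [h2]
      intro i
      exact congrFun (LinearMap.mem_ker.1 hy) i
    rw [hbot] at this
    exact this)
  exact ⟨u, huu, (h2 u).1 hu⟩

section graph

variable {A : Cfsg.GU 6 F4 2} {ρ : F4 ≃+* F4} (hρ : ∀ a, ρ a = a ^ 2)
  (h : ∀ f, hermForm 6 F4 2 f f = 0 → hermForm 6 F4 2 f (Bm A ρ f) = 0)

include hρ h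

theorem sym_mat : (∀ i, gm A i i = 0) ∧ ∀ i j, gm A i j = gm A j i := by
  have h1 : ∀ i j : Fin 6, i ≠ j → gm A i i = 0 ∧ gm A i j = gm A j i ∧ gm A j j = 0 := by
    intro i j hij
    apply semi_case
    intro l hl
    have := h _ (eij_iso hij hl)
    rwa [herm_eij, hρ] at this
  constructor
  · intro i
    rcases eq_or_ne i 0 with rfl | hi
    · exact (h1 0 1 (by decide)).1
    · exact (h1 i 0 hi).1
  · intro i j
    rcases eq_or_ne i j with rfl | hij
    · rfl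
    · exact (h1 i j hij).2.1

theorem s_eq (x y : Fin 6 → F4) : hermForm 6 F4 2 x (Bm A ρ y) = ∑ i, ∑ j, x i * (gm A i j ^ 2 * y j) := by
  rw [hermForm]
  refine Finset.sum_congr rfl fun i _ => ?_
  rw [← Finset.mul_sum]
  congr 1
  rw [Bm, mulVec, dotProduct, sum_pow_q hF]
  refine Finset.sum_congr rfl fun j _ => ?_
  rw [hρ]
  have : ∀ a b : F4, (a * b ^ 2) ^ 2 = a ^ 2 * b := by decide
  exact this _ _

theorem s_symm (x y : Fin 6 → F4) : hermForm 6 F4 2 x (Bm A ρ y) = hermForm 6 F4 2 y (Bm A ρ x) := by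
  rw [s_eq hρ h, s_eq hρ h, Finset.sum_comm]
  refine Finset.sum_congr rfl fun i _ => Finset.sum_congr rfl fun j _ => ?_
  rw [(sym_mat hρ h).2 i j]
  ring

theorem s_self (x : Fin 6 → F4) : hermForm 6 F4 2 x (Bm A ρ x) = 0 := by
  have h2 : ∀ a : F4, a + a = 0 := by decide
  rw [s_eq hρ h]
  simp only [Fin.sum_univ_six, (sym_mat hρ h).1]
  rw [(sym_mat hρ h).2 1 0, (sym_mat hρ h).2 2 0, (sym_mat hρ h).2 3 0, (sym_mat hρ h).2 4 0, (sym_mat hρ h).2 5 0,
    (sym_mat hρ h).2 2 1, (sym_mat hρ h).2 3 1, (sym_mat hρ h).2 4 1, (sym_mat hρ h).2 5 1,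
    (sym_mat hρ h).2 3 2, (sym_mat hρ h).2 4 2, (sym_mat hρ h).2 5 2,
    (sym_mat hρ h).2 4 3, (sym_mat hρ h).2 5 3, (sym_mat hρ h).2 5 4]
  have h3 : (2 : F4) = 0 := h2 1
  ring_nf
  rw [h3]
  ring

theorem BB (x : Fin 6 → F4) : Bm A ρ (Bm A ρ x) = x := by
  have h1 : ∀ y, hermForm 6 F4 2 (Bm A ρ (Bm A ρ x) - x) y = 0 := by
    intro y
    have h2 : hermForm 6 F4 2 (Bm A ρ x) (Bm A ρ y) = (hermForm 6 F4 2 x y) ^ 2 := by
      rw [Bm, Bm, herm_semi, hρ]
    rw [s_symm hρ h, ← herm_swap hF x y] at h2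
    refine herm_eq_zero_swap hF ?_
    rw [herm_sub_right hF, h2, sub_self]
  exact sub_eq_zero.1 (herm_nondeg hF h1)

/-- an orthonormal system adapted to the involution -/
theorem exists_sys (m : ℕ) (hm : m ≤ 3) : ∃ c : Fin m → (Fin 6 → F4),
    (∀ i j, hermForm 6 F4 2 (c i) (c j) = if i = j then 1 else 0) ∧ ∀ i j, hermForm 6 F4 2 (c i) (Bm A ρ (c j)) = 0 := by
  induction m with
  | zero => exact ⟨fun i => i.elim0, fun i => i.elim0, fun i => i.elim0⟩
  | succ m ih =>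
    obtain ⟨c, hc1, hc2⟩ := ih (by omega)
    have hc2' : ∀ i j, hermForm 6 F4 2 (Bm A ρ (c i)) (c j) = 0 := fun i j => herm_eq_zero_swap hF (hc2 j i)
    have hc3 : ∀ i j, hermForm 6 F4 2 (Bm A ρ (c i)) (Bm A ρ (c j)) = if i = j then 1 else 0 := by
      intro i j
      rw [Bm, Bm, herm_semi, hc1]
      split_ifs
      · exact map_one ρ
      · exact map_zero ρ
    obtain ⟨u, hu, hub⟩ := exists_perp (ι := Fin m ⊕ Fin m) (b := Sum.elim c fun i => Bm A ρ (c i))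
      (by rw [Fintype.card_sum, Fintype.card_fin]; omega) (by
        rintro (i | i) (j | j)
        · simp [hc1]
        · simp [hc2]
        · simp [hc2']
        · simp [hc3])
    have h1 : ∀ i, hermForm 6 F4 2 u (c i) = 0 := fun i => hub (Sum.inl i)
    have h2 : ∀ i, hermForm 6 F4 2 u (Bm A ρ (c i)) = 0 := fun i => hub (Sum.inr i)
    have h3 : ∀ i, hermForm 6 F4 2 (c i) u = 0 := fun i => herm_eq_zero_swap hF (h1 i)
    have h4 : ∀ i, hermForm 6 F4 2 (c i) (Bm A ρ u) = 0 := fun i => by rw [s_symm hρ h, h2]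
    refine ⟨Fin.cons u c, fun i j => ?_, fun i j => ?_⟩
    · refine Fin.cases ?_ (fun i => ?_) i <;> refine Fin.cases ?_ (fun j => ?_) j
      · rw [Fin.cons_zero, if_pos rfl, hu]
      · rw [Fin.cons_zero, Fin.cons_succ, h1, if_neg (Fin.succ_ne_zero j).symm]
      · rw [Fin.cons_zero, Fin.cons_succ, h3, if_neg (Fin.succ_ne_zero i)]
      · rw [Fin.cons_succ, Fin.cons_succ, hc1]
        simp only [Fin.succ_inj]
    · refine Fin.cases ?_ (fun i => ?_) i <;> refine Fin.cases ?_ (fun j => ?_) j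
      · rw [Fin.cons_zero]; exact s_self hρ h u
      · rw [Fin.cons_zero, Fin.cons_succ, h2]
      · rw [Fin.cons_zero, Fin.cons_succ, h4]
      · rw [Fin.cons_succ, Fin.cons_succ, hc2]

/-- `A` is conjugate to `J` -/
theorem exists_C : ∃ C : Cfsg.GU 6 F4 2, ∀ y, Bm A ρ (gm C *ᵥ y) = gm C *ᵥ (Jm *ᵥ fun i => ρ (y i)) := by
  obtain ⟨c, hc1, hc2⟩ := exists_sys hρ h 3 le_rfl
  have hc2' : ∀ i j, hermForm 6 F4 2 (Bm A ρ (c i)) (c j) = 0 := fun i j => herm_eq_zero_swap hF (hc2 j i)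
  have hc3 : ∀ i j, hermForm 6 F4 2 (Bm A ρ (c i)) (Bm A ρ (c j)) = if i = j then 1 else 0 := by
    intro i j
    rw [Bm, Bm, herm_semi, hc1]
    split_ifs
    · exact map_one ρ
    · exact map_zero ρ
  set b : Fin 6 → (Fin 6 → F4) := ![c 0, Bm A ρ (c 0), c 1, Bm A ρ (c 1), c 2, Bm A ρ (c 2)] with hb
  have hbo : ∀ i j, hermForm 6 F4 2 (b i) (b j) = if i = j then 1 else 0 := by
    intro i j
    fin_cases i <;> fin_cases j <;> simp [hb, hc1, hc2, hc2', hc3]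
  obtain ⟨g, hg, hgb⟩ := exists_GU_of_orthonormal hF hbo
  refine ⟨⟨g, hg⟩, fun y => ?_⟩
  have h1 : ∀ y, gm (⟨g, hg⟩ : Cfsg.GU 6 F4 2) *ᵥ y = ∑ i, y i • b i := hgb
  have hadd : ∀ x y, Bm A ρ (x + y) = Bm A ρ x + Bm A ρ y := by
    intro x y
    rw [Bm, Bm, Bm, ← mulVec_add]
    congr 1
    funext i
    exact map_add ρ _ _
  have hsm : ∀ (t : F4) x, Bm A ρ (t • x) = ρ t • Bm A ρ x := by
    intro t x
    rw [Bm, Bm, ← mulVec_smul]
    congr 1
    funext i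
    exact map_mul ρ _ _
  rw [h1, h1, Fin.sum_univ_six, Fin.sum_univ_six, hadd, hadd, hadd, hadd, hadd, hsm, hsm, hsm, hsm, hsm, hsm]
  have b0 : b 0 = c 0 := rfl
  have b1 : b 1 = Bm A ρ (c 0) := rfl
  have b2 : b 2 = c 1 := rfl
  have b3 : b 3 = Bm A ρ (c 1) := rfl
  have b4 : b 4 = c 2 := rfl
  have b5 : b 5 = Bm A ρ (c 2) := rfl
  rw [b0, b1, b2, b3, b4, b5, BB hρ h, BB hρ h, BB hρ h]
  have J : ∀ x : Fin 6 → F4, Jm *ᵥ x = ![x 1, x 0, x 3, x 2, x 5, x 4] := by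
    intro x
    funext i
    rw [mv6]
    fin_cases i
    · change 0 * x 0 + 1 * x 1 + 0 * x 2 + 0 * x 3 + 0 * x 4 + 0 * x 5 = x 1
      ring
    · change 1 * x 0 + 0 * x 1 + 0 * x 2 + 0 * x 3 + 0 * x 4 + 0 * x 5 = x 0
      ring
    · change 0 * x 0 + 0 * x 1 + 0 * x 2 + 1 * x 3 + 0 * x 4 + 0 * x 5 = x 3
      ring
    · change 0 * x 0 + 0 * x 1 + 1 * x 2 + 0 * x 3 + 0 * x 4 + 0 * x 5 = x 2
      ring
    · change 0 * x 0 + 0 * x 1 + 0 * x 2 + 0 * x 3 + 0 * x 4 + 1 * x 5 = x 5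
      ring
    · change 0 * x 0 + 0 * x 1 + 0 * x 2 + 0 * x 3 + 1 * x 4 + 0 * x 5 = x 4
      ring
  rw [J]
  change ρ (y 0) • Bm A ρ (c 0) + ρ (y 1) • c 0 + ρ (y 2) • Bm A ρ (c 1) + ρ (y 3) • c 1 + ρ (y 4) • Bm A ρ (c 2) +
    ρ (y 5) • c 2 = ρ (y 1) • c 0 + ρ (y 0) • Bm A ρ (c 0) + ρ (y 3) • c 1 + ρ (y 2) • Bm A ρ (c 1) + ρ (y 5) • c 2 +
    ρ (y 4) • Bm A ρ (c 2)
  abel

/-- the second case -/
theorem case_two : ∃ x : PSU 6 F4 2, ∀ K : Subgroup (PSU 6 F4 2), x ∈ K → (∀ k ∈ K, toAut A ρ k ∈ K) → K = ⊤ := by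
  obtain ⟨C, hC⟩ := exists_C hρ h
  set γ := toAut C (RingEquiv.refl F4) with hγ
  have key : ∀ k, toAut A ρ (γ k) = γ (toAut J0 ρ k) := by
    intro k
    obtain ⟨g, rfl⟩ := pr_surjective k
    rw [hγ, toAut_pr, toAut_pr, toAut_pr, toAut_pr]
    congr 1
    apply ext_act
    intro y
    -- `y = A ρ(C x)`
    obtain ⟨x, rfl⟩ : ∃ x : Fin 6 → F4, y = gm A *ᵥ fun i => ρ ((gm C *ᵥ x) i) := by
      refine ⟨gm C⁻¹ *ᵥ (fun i => ρ.symm ((gm A⁻¹ *ᵥ y) i)), ?_⟩
      rw [gm_mulVec_inv]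
      have : (fun i => ρ ((fun i => ρ.symm ((gm A⁻¹ *ᵥ y) i)) i)) = gm A⁻¹ *ᵥ y := by
        funext i
        exact ρ.apply_symm_apply _
      rw [this, gm_mulVec_inv]
    have e1 := act_semiConj C (RingEquiv.refl F4) g x
    have e2 := act_semiConj A ρ (semiConj C (RingEquiv.refl F4) g) (gm C *ᵥ x)
    have e3 := act_semiConj J0 ρ g x
    have e4 := act_semiConj C (RingEquiv.refl F4) (semiConj J0 ρ g) (gm J0 *ᵥ fun i => ρ (x i))
    have e5 := hC x
    have e6 := hC (act g x)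
    rw [e2]
    change act (semiConj C (RingEquiv.refl F4) g) (gm C *ᵥ x) = gm C *ᵥ act g x at e1
    change act (semiConj C (RingEquiv.refl F4) (semiConj J0 ρ g)) (gm C *ᵥ (gm J0 *ᵥ fun i => ρ (x i))) =
      gm C *ᵥ act (semiConj J0 ρ g) (gm J0 *ᵥ fun i => ρ (x i)) at e4
    rw [e3] at e4
    rw [e1]
    change Bm A ρ (gm C *ᵥ act g x) = act _ (Bm A ρ (gm C *ᵥ x))
    rw [e5, e6]
    exact e4.symm
  refine ⟨γ (pr 6 F4 2 x1), fun K hx hK => ?_⟩
  have h1 : K.comap γ.toMonoidHom = ⊤ := by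
    refine gen2 hρ hx fun k hk => ?_
    change γ (toAut J0 ρ k) ∈ K
    rw [← key]
    exact hK _ hk
  rw [eq_top_iff]
  intro y _
  have h2 : γ.symm y ∈ K.comap γ.toMonoidHom := by rw [h1]; trivial
  have h3 : γ (γ.symm y) ∈ K := h2
  rwa [MulEquiv.apply_symm_apply] at h3

end graph

/-- **`PSU_6(2)` over `F₄`** -/
theorem spr_six_F4 : Spr (PSU 6 F4 2) := by
  intro α hα
  obtain ⟨A, ρ, rfl⟩ := Cfsg.Agent.ClassicalGeometry.PSUAutMain.exists_toAut hF (by norm_num)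
    (fun h => by omega) α
  by_cases hc : ∃ f, hermForm 6 F4 2 f f = 0 ∧ hermForm 6 F4 2 f (Bm A ρ f) ≠ 0
  · obtain ⟨f, hf, hfB⟩ := hc
    exact case_one hf hfB
  · push Not at hc
    rcases rho_cases ρ with hρ | hρ
    · exact absurd (one_of_lin hρ hc) hα
    · exact case_two hρ hc

variable {F : Type*} [Field F] [Fintype F]

theorem spr_congr {L L' : Type*} [Group L] [Group L'] (e : L ≃* L') (h : Spr L) : Spr L' := by
  intro a ha
  obtain ⟨x, hx⟩ := h ((e.trans a).trans e.symm) (by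
    intro h1
    apply ha
    ext y
    have h2 := congrArg (fun b : MulAut L => b (e.symm y)) h1
    simp only [MulEquiv.trans_apply, MulEquiv.apply_symm_apply, MulAut.one_apply] at h2
    have h3 := congrArg e h2
    simpa using h3)
  refine ⟨e x, fun K hK hKa => ?_⟩
  have h1 := hx (K.comap e.toMonoidHom) hK (by
    intro k hk
    change e (e.symm (a (e k))) ∈ K
    rw [MulEquiv.apply_symm_apply]
    exact hKa _ hk)
  rw [eq_top_iff]
  intro y _
  have h2 : e.symm y ∈ K.comap e.toMonoidHom := by rw [h1]; trivial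
  have h3 : e (e.symm y) ∈ K := h2
  rwa [MulEquiv.apply_symm_apply] at h3

/-- **`PSU_6(2)`** -/
theorem spr_psu_six_two (hF4 : Fintype.card F = 2 ^ 2) : Spr (PSU 6 F 2) := by
  obtain ⟨e⟩ := Cfsg.Agent.SporadicStructure.PsuMatch.psu_iso_of_card (F := F4) (K := F) (n := 6) (q := 2)
    (by rw [hF4]; rfl)
  exact spr_congr e spr_six_F4

end Cfsg.Agent.H62.Spr.U62
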