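import Cfsg.Agent.H62.Spr.SUSix
import Cfsg.Agent.H62.Spr.U62Spr

/-!
# S3938 (3/2-generation): `PSU_6(q)`, all `q` (helper62, task 4834)

`spr_psu_six` : hypothesis `R5803 F q` (the text of S5803) for `q ≥ 3`; nothing for `q = 2`.
-/

set_option autoImplicit false
set_option linter.unusedSectionVars false

namespace Cfsg.Agent.H62.Spr

open Cfsg Cfsg.Agent.H424.Spr Cfsg.Agent.H680.Cov.SU6 Cfsg.Agent.ClassicalGeometry.UnitAutBasic
  Cfsg.Agent.LieClassical.HermBasic

variable {F : Type} [Field F] [Fintype F] {q : ℕ}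

theorem psu_six_na (hF : Fintype.card F = q ^ 2) : ∃ x y : PSU 6 F q, x * y ≠ y * x := by
  obtain ⟨u, u', -, -, -, -, -, hu, hu', huu⟩ := LieClassical.HermGen.exists_hyp_pair (n := 6) hF (i := 0) (j := 1) (by decide)
  refine ⟨tau hF u, tau hF u', fun h => ?_⟩
  have hu0 : u' ≠ 0 := by
    rintro rfl
    rw [herm_zero_right hF] at huu
    exact zero_ne_one huu
  have h1 := herm_eq_zero_swap hF ((tau_comm_iff hF (by norm_num) hu hu' hu0).1 h)
  rw [huu] at h1
  exact one_ne_zero h1

theorem spr_psu_six (hF : Fintype.card F = q ^ 2) (hR : 3 ≤ q → R5803 F q) : Spr (PSU 6 F q) := by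
  have hfin : Finite (PSU 6 F q) := Quotient.finite _
  have hs : IsSimpleGroup (PSU 6 F q) := Cfsg.Agent.S0283.result hF 6 (by norm_num) (by omega)
  have h2 : 2 ≤ q := by
    by_contra hcon
    have h1 := Fintype.one_lt_card (α := F)
    rw [hF] at h1
    interval_cases q <;> omega
  rcases h2.eq_or_lt with rfl | h3
  · exact U62.spr_psu_six_two hF
  · exact spr_psu_six_of hF h3 (hR h3) (psu_six_na hF)

end Cfsg.Agent.H62.Spr
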