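import Cfsg.Agent.H680.Cov.SU6.Main
import Cfsg.Agent.H269.U5.ExistA
import Cfsg.Agent.H424.Spr.Two

/-!
# S3938 (3/2-generation): `PSU_6(q)`, `q ≥ 3` (helper62, task 4834)

`spr_psu_six_of` : hypothesis `R5803 F q` (the text of S5803).  The element `[5] + [1]`: all proper overgroups
stabilise the fixed line.
-/

set_option autoImplicit false
set_option linter.unusedSectionVars false

namespace Cfsg.Agent.H62.Spr

open Cfsg Cfsg.Geo Module Cfsg.Agent.H951 Cfsg.Agent.H251.GeoU Cfsg.Agent.H251.GeoCard
open Cfsg.Agent.H729.CovU (L L_isom L_injective geo_over_pre)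
open Cfsg.Agent.H680.Cov.SU6
open Cfsg.Agent.H424.Spr
open Cfsg.Agent.H494.PSURow (blk blk_injective eq_one_left)
open scoped Matrix MatrixGroups

section st

variable {F : Type*} [Field F] {n q : ℕ}

/-- the stabiliser of a subspace in `PSU_n(q)` -/
def stP (n : ℕ) (F : Type*) [Field F] (q : ℕ) (W : Submodule F (Fin n → F)) : Subgroup (PSU n F q) :=
  ((subspaceStabilizer W).comap (H918.suHom n F q)).map (QuotientGroup.mk' (Subgroup.center (SU n F q)))

theorem le_stP {M : Subgroup (PSU n F q)} {W : Submodule F (Fin n → F)} (h : pre M ≤ subspaceStabilizer W) :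
    M ≤ stP n F q W := by
  intro x hx
  obtain ⟨y, rfl⟩ := QuotientGroup.mk'_surjective _ x
  exact ⟨y, h ⟨y, hx, rfl⟩, rfl⟩

theorem card_stP_dvd [Fintype F] (W : Submodule F (Fin n → F)) :
    Nat.card (stP n F q W) ∣ Nat.card (subspaceStabilizer W ⊓ Cfsg.GU n F q : Subgroup (GL (Fin n) F)) := by
  refine (Subgroup.card_map_dvd _ _).trans ?_
  refine Subgroup.card_dvd_of_injective (((H918.suHom n F q).comp
    ((subspaceStabilizer W).comap (H918.suHom n F q)).subtype).codRestrict _ ?_) ?_
  · rintro ⟨x, hx⟩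
    exact ⟨hx, (H918.suHom_mem x).1⟩
  · intro x y hxy
    apply Subtype.ext
    exact H918.suHom_injective (congrArg Subtype.val hxy)

end st

variable {F : Type} [Field F] [Fintype F] {q : ℕ}

theorem spr_psu_six_of (hF : Fintype.card F = q ^ 2) (hq3 : 3 ≤ q) (hR : R5803 F q)
    [IsSimpleGroup (PSU 6 F q)] [Finite (PSU 6 F q)] (hna : ∃ x y : PSU 6 F q, x * y ≠ y * x) :
    Spr (PSU 6 F q) := by
  classical
  obtain ⟨p, f, hp, hf, hqp, hchar⟩ := H269.U5.exists_base hF
  obtain ⟨u, hPN, x, m, hx, hx1, -⟩ := H269.U5.exists_A hF hq3 hp hf hqp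
  have hu := hPN.pr
  have hfu := Fact.mk hu
  have huo : orderOf (-(q : ZMod u)) = 5 := hPN.ord_neg (d := 5) rfl ⟨2, rfl⟩
  have hu11 : 11 ≤ u := hPN.ger
  have huf' : ¬ u ∣ f := fun h => by
    have h1 := Nat.le_of_dvd hf h
    have h2 := hPN.ge
    omega
  have huiff : ∀ k, u ∣ p ^ k - 1 ↔ 2 * 5 * f ∣ k := fun k => by rw [hPN.iff]
  obtain ⟨v, hv, hvo, hvf, -, -⟩ := H149.NegPrime.exists_neg_prime (i := 6) hp hqp hf (by norm_num) (by norm_num)
  have hfv := Fact.mk hv
  have huq := not_dvd_of_ord hu huo (by norm_num)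
  have hru := natCast_ne hF hu huq
  have hu5 : orderOf ((q ^ 2 : ℕ) : ZMod u) = 5 := ord_sq_odd huo ⟨2, rfl⟩
  have hqq := Nat.one_le_pow 2 q (LieClassical.HermBasic.q_pos hF)
  have huF : ¬ u ∣ Nat.card F - 1 := by
    intro h1
    have h2 : Div u (q ^ 2) 1 := div_one le_rfl (by rwa [← nat_card_eq hF])
    have h3 := ord_le_of_div hqq h2
    omega
  -- the element
  set s : SU (5 + 1) F q := blk 5 1 F q (x, 1) with hs
  set a : SU (5 + 1) F q := s ^ (u ^ m) with ha
  let π := QuotientGroup.mk' (Subgroup.center (SU (5 + 1) F q))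
  have hso : orderOf s = u ^ (m + 1) := by
    rw [← hx, hs, orderOf_injective _ (blk_injective _ _ _), Prod.orderOf_mk, orderOf_one, Nat.lcm_one_right]
  have hau : a ^ u = 1 := by
    rw [ha, ← pow_mul, ← pow_succ, ← hso, pow_orderOf_eq_one]
  have hax : a = blk 5 1 F q (x ^ (u ^ m), 1) := by rw [ha, hs, ← map_pow, Prod.pow_mk, one_pow]
  have hx0 : x ^ (u ^ m) ≠ 1 := by
    intro h
    have h1 := orderOf_dvd_of_pow_eq_one h
    rw [hx] at h1
    have h2 := (Nat.pow_dvd_pow_iff_le_right hu.one_lt).1 h1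
    omega
  have ha1 : a ≠ 1 := by
    intro h
    apply hx0
    have h1 : ((x ^ (u ^ m), 1) : SU 5 F q × SU 1 F q) = 1 := by
      apply blk_injective 5 1 q
      rw [← hax, h, map_one]
    exact congrArg Prod.fst h1
  have hac : a ∉ Subgroup.center (SU (5 + 1) F q) := by
    rw [hax]
    intro h
    exact hx0 (eq_one_left hF (by norm_num) (by norm_num) h)
  have hLa : (L (5 + 1) F q a) ^ u = 1 := by rw [← map_pow, hau, map_one]
  have hfix1 : finrank F (fx (L (5 + 1) F q a)) = 1 := by
    have h1 := fix_le hF huq (L_isom a) hLa (fun h => ha1 (L_injective (by rw [h, map_one])))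
    rw [huo] at h1
    have h2 := finrank_fx_blk (F := F) (q := q) (x ^ (u ^ m)) (1 : SU 1 F q)
    rw [← hax, L_one_fx, finrank_top, finrank_fintype_fun_eq_card, Fintype.card_fin] at h2
    omega
  -- the only overgroup
  have hfin : Finite (PSU (5 + 1) F q) := inferInstanceAs (Finite (PSU 6 F q))
  have hsim : IsSimpleGroup (PSU (5 + 1) F q) := inferInstanceAs (IsSimpleGroup (PSU 6 F q))
  refine spr_of_one (L := PSU (5 + 1) F q) hna (s := π s) (M := stP (5 + 1) F q (fx (L (5 + 1) F q a))) ?_ ?_
  · intro htop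
    have h1 := card_stP_dvd (F := F) (q := q) (fx (L (5 + 1) F q a))
    rw [htop, Subgroup.card_top] at h1
    have h2 := H149.PGU.dvd_card_psu (n := 5 + 1) hF (by norm_num) hv (by norm_num) (by norm_num) hvo
    exact kill_point hF hv hvo ⟨3, rfl⟩ (by norm_num) hfix1 (h2.trans h1)
  · intro K hsK hK
    obtain ⟨M, hM, hKM⟩ := (eq_top_or_exists_le_coatom K).resolve_left hK
    refine hKM.trans ?_
    have hsM : π s ∈ M := hKM hsK
    have haM : H918.suHom (5 + 1) F q a ∈ pre M := by
      refine ⟨a, ?_, rfl⟩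
      change π a ∈ M
      rw [ha, map_pow]
      exact M.pow_mem hsM _
    have huM : u ∣ Nat.card M := by
      have h1 : orderOf (π a) = u := by
        apply orderOf_eq_prime
        · rw [← map_pow, hau, map_one]
        · intro h2
          exact hac ((QuotientGroup.eq_one_iff _).1 h2)
      have h2 : π a ∈ M := by
        rw [ha, map_pow]
        exact M.pow_mem hsM _
      rw [← h1, ← Subgroup.orderOf_mk (π a) h2]
      exact orderOf_dvd_natCard _
    rcases geo_over_pre (n := 5 + 1) hF hp hqp hf hu huiff huo ⟨2, rfl⟩ (by norm_num) (by norm_num) (by omega) hM.1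
      huM with ⟨W, h1, h2, h3, h4⟩ | ⟨W, h1, h2, h3, h4, h5⟩ | ⟨r, K, h1, h2, h3, h4, h5, h6⟩ | hres
    · exfalso
      apply h1
      rw [← Submodule.finrank_eq_zero (R := F)]
      omega
    · have hWf : W ≤ fx (L (5 + 1) F q a) := by
        refine le_fx hru hLa (inv_of_mem (h5 haM)) ?_
        rw [hF, hu5]
        omega
      have hW0 : finrank F W ≠ 0 := fun h => h1 ((Submodule.finrank_eq_zero (R := F)).1 h)
      have hWe : W = fx (L (5 + 1) F q a) := Submodule.eq_of_le_of_finrank_le hWf (by rw [hfix1]; omega)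
      rw [← hWe]
      exact le_stP h5
    · exfalso
      have h7 := (Nat.prime_dvd_prime_iff_eq h1 Nat.prime_five).1 h4
      subst h7
      norm_num at h3
    · exfalso
      have huM' := huM.trans (card_dvd_pre M)
      -- the order of `s` divides the order of the automorphism group of the core
      have hsM' : H918.suHom (5 + 1) F q s ∈ pre M := ⟨s, hsM, rfl⟩
      have key : ∀ {P : Subgroup (GL (Fin 6) F)} {A : Type} [Group A], IsResidualCore (pre M) P →
          ((P ⧸ (scalars (Fin 6) F).subgroupOf P) ≃* A) → u ^ (m + 1) ∣ Nat.card (MulAut A) := by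
        intro P A _ hP e
        have h1 := H900.SU4.card_dvd_of_core (B := Subgroup.zpowers s) hP
          ((H918.suHom (5 + 1) F q).comp (Subgroup.zpowers s).subtype) (by
            rintro ⟨b, hb⟩
            obtain ⟨k, rfl⟩ := Subgroup.mem_zpowers_iff.1 hb
            change H918.suHom (5 + 1) F q (s ^ k) ∈ pre M
            rw [map_zpow]
            exact (pre M).zpow_mem hsM' k) (by
            rintro ⟨b, hb⟩ hbs
            have hb' : H918.suHom (5 + 1) F q b ∈ scalars (Fin 6) F := hbs
            have h2 : orderOf (H918.suHom (5 + 1) F q b) ∣ Nat.card F - 1 := by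
              rw [← Subgroup.orderOf_mk _ hb']
              exact (orderOf_dvd_natCard _).trans H251.GeoCard.card_scalars_dvd
            rw [orderOf_injective _ H918.suHom_injective] at h2
            have h3 : orderOf b ∣ u ^ (m + 1) := by
              have h5 := orderOf_dvd_natCard (⟨b, hb⟩ : Subgroup.zpowers s)
              rwa [Nat.card_zpowers, hso, Subgroup.orderOf_mk] at h5
            have h4 : orderOf b = 1 := by
              obtain ⟨j, -, hj⟩ := (Nat.dvd_prime_pow hu).1 h3
              rcases Nat.eq_zero_or_pos j with h5 | h5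
              · rw [hj, h5, pow_zero]
              · exact absurd ((dvd_pow_self u h5.ne').trans (by rwa [hj] at h2)) huF
            exact Subtype.ext (orderOf_eq_one_iff.1 h4))
        rwa [Nat.card_zpowers, hso, Nat.card_congr (MulAut.congr e).toEquiv] at h1
      obtain ⟨P, hc, h | h | h | h | h | h⟩ := hR _ (H729.CovU.isMaximalIn_pre hM) hres
      · obtain ⟨⟨e⟩, -⟩ := h
        apply hx1
        rw [hx]
        have h11 : Fact (Nat.Prime 11) := ⟨by norm_num⟩
        have h1 := key hc e
        rw [S0813.result 11 1 le_rfl (by rw [ZMod.card, pow_one]) 2 le_rfl (fun _ => by norm_num), if_pos rfl, one_mul,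
          one_mul, ClassicalGeometry.PSL2Basic.card_PGL2, ZMod.card] at h1
        exact h1.trans (by norm_num)
      · obtain ⟨⟨e⟩, -⟩ := h
        have := aut_a7 hu (by omega) (prime_dvd_aut hu huF hc huM' e)
        omega
      · obtain ⟨⟨K, _, _, hK, ⟨e⟩⟩, -⟩ := h
        have := aut_l34 hu (by omega) hK (prime_dvd_aut hu huF hc huM' e)
        omega
      · obtain ⟨-, h2⟩ := h
        omega
      · obtain ⟨⟨K, _, _, hK, ⟨e⟩⟩, -⟩ := h
        have := aut_u43 hu (by omega) hK (prime_dvd_aut hu huF hc huM' e)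
        omega
      · obtain ⟨⟨e⟩, -⟩ := h
        exact aut_u3 hF hq3 hp hqp hf hu (by omega) huo (by norm_num) huf' (prime_dvd_aut hu huF hc huM' e)

end Cfsg.Agent.H62.Spr
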