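import Cfsg.Agent.H62.Spr.U62Cert
import Cfsg.Agent.ClassicalGeometry.PSUAutMain
import Cfsg.Agent.ClassicalGeometry.HermOrtho
import Cfsg.Agent.H424.Spr.Core
import Cfsg.Agent.S0283

/-!
# S3938 (3/2-generation), `PSU_6(2)` (helper62, task 4834)

The method is helper891's: if `K` contains a transvection `t_f`, it contains `α(t_f) = t_{Bf}`. Either some
singular `f` is not orthogonal to `B f` (one generating pair), or `α` is the graph involution with centralizer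
`Sp_6(2)`, unique up to conjugacy (one generating pair `x`, `α(x)`).
-/

set_option autoImplicit false
set_option maxRecDepth 100000

namespace Cfsg.Agent.H62.Spr.U62

open Cfsg Matrix Cfsg.Agent.SporadicA.FieldFour F4 Cfsg.Agent.LieClassical.HermBasic
  Cfsg.Agent.LieClassical.HermSiegel Cfsg.Agent.LieClassical.HermGen Cfsg.Agent.ClassicalGeometry.UnitAutBasic
  Cfsg.Agent.ClassicalGeometry.PSUAutCount Cfsg.Agent.ClassicalGeometry.HermOrtho
open Cfsg.Agent.H852.USixElts (M6 st mk hF frob det_one_of_pow)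
open Cfsg.Agent.H424.Spr (Spr)

theorem X_pow : X ^ 10 = 1 := by decide +kernel

theorem X_Xi : X * Xi = 1 := by decide +kernel

theorem Y_Yi : Y * Yi = 1 := by decide +kernel

/-- the element of order 10 -/
def x1 : SU 6 F4 2 := mk X X_st (det_one_of_pow 10 X_pow (by decide))

theorem act_x1 (y : Fin 6 → F4) : act x1 y = X *ᵥ y := rfl

theorem act_inv_of {g : SU 6 F4 2} {A B : M6} (h : ∀ y, act g y = A *ᵥ y) (hAB : A * B = 1) (y : Fin 6 → F4) :
    act g⁻¹ y = B *ᵥ y := by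
  have h1 : act g (B *ᵥ y) = y := by rw [h, mulVec_mulVec, hAB, one_mulVec]
  rw [← h1, act_inv_act, h1]

theorem act_x1_inv (y : Fin 6 → F4) : act x1⁻¹ y = Xi *ᵥ y := act_inv_of act_x1 X_Xi y

theorem c0_eq : c0 hF = 1 := by
  have h1 := c0_ne_zero hF
  have h2 := c0_tr hF
  generalize c0 hF = c at h1 h2
  revert c
  decide

/-- the vector `g₀` -/
def g0 : Fin 6 → F4 := ![z, o, z, o, z, z]

theorem f0_iso : hermForm 6 F4 2 f0 f0 = 0 := by
  rw [hermForm, Fin.sum_univ_six]; decide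

theorem g0_iso : hermForm 6 F4 2 g0 g0 = 0 := by
  rw [hermForm, Fin.sum_univ_six]; decide

theorem f0_g0 : hermForm 6 F4 2 f0 g0 = 1 := by
  rw [hermForm, Fin.sum_univ_six]; decide

theorem act_Tg (y : Fin 6 → F4) : act (T hF g0) y = Tg *ᵥ y := by
  rw [act_T hF g0_iso, c0_eq, one_mul]
  have h1 : hermForm 6 F4 2 y g0 = y 1 + y 3 := by
    rw [hermForm, Fin.sum_univ_six]
    change y 0 * (0 : F4) ^ 2 + y 1 * (1 : F4) ^ 2 + y 2 * (0 : F4) ^ 2 + y 3 * (1 : F4) ^ 2 + y 4 * (0 : F4) ^ 2 +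
      y 5 * (0 : F4) ^ 2 = _
    ring
  have h2 : ∀ a b : F4, a + (a + b) * 1 = b := by decide
  have h3 : ∀ a b : F4, b + (a + b) * 1 = a := by decide
  rw [h1]
  funext i
  rw [mv6]
  fin_cases i
  · change y 0 + (y 1 + y 3) * (0 : F4) = 1 * y 0 + 0 * y 1 + 0 * y 2 + 0 * y 3 + 0 * y 4 + 0 * y 5
    ring
  · change y 1 + (y 1 + y 3) * (1 : F4) = 0 * y 0 + 0 * y 1 + 0 * y 2 + 1 * y 3 + 0 * y 4 + 0 * y 5
    rw [h2]; ring
  · change y 2 + (y 1 + y 3) * (0 : F4) = 0 * y 0 + 0 * y 1 + 1 * y 2 + 0 * y 3 + 0 * y 4 + 0 * y 5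
    ring
  · change y 3 + (y 1 + y 3) * (1 : F4) = 0 * y 0 + 1 * y 1 + 0 * y 2 + 0 * y 3 + 0 * y 4 + 0 * y 5
    rw [h3]; ring
  · change y 4 + (y 1 + y 3) * (0 : F4) = 0 * y 0 + 0 * y 1 + 0 * y 2 + 0 * y 3 + 1 * y 4 + 0 * y 5
    ring
  · change y 5 + (y 1 + y 3) * (0 : F4) = 0 * y 0 + 0 * y 1 + 0 * y 2 + 0 * y 3 + 0 * y 4 + 1 * y 5
    ring

theorem X_five : X ^ 5 = 1 + Matrix.vecMulVec f0 (fun i => f0 i ^ 2) := by decide +kernel

theorem mat_x1_pow (n : ℕ) : mat (x1 ^ n) = X ^ n := by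
  induction n with
  | zero => rfl
  | succ n ih =>
    rw [pow_succ, mat_mul, ih, pow_succ]
    rfl

theorem T_f0 : T hF f0 = x1 ^ 5 := by
  apply ext_act
  intro y
  rw [act_T hF f0_iso, c0_eq, one_mul, act_def, mat_x1_pow, X_five, Matrix.add_mulVec, Matrix.one_mulVec]
  congr 1
  funext i
  rw [Matrix.mulVec, dotProduct]
  simp only [vecMulVec_apply, Pi.smul_apply, smul_eq_mul]
  rw [hermForm, Finset.sum_mul]
  refine Finset.sum_congr rfl fun j _ => ?_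
  ring

theorem tau_f0 : tau hF f0 = pr 6 F4 2 x1 ^ 5 := by
  rw [tau_def, T_f0, map_pow]

instance simp6 : IsSimpleGroup (PSU 6 F4 2) := Cfsg.Agent.S0283.result hF 6 (by norm_num) (by omega)

theorem cube_one {c : F4} (h : c ≠ 0) : c * c ^ 2 = 1 := by
  revert c
  decide

theorem tau_smul {y : Fin 6 → F4} (hy : hermForm 6 F4 2 y y = 0) {c : F4} (hc : c ≠ 0) :
    tau hF (c • y) = tau hF y := by
  have := tau_smul_congr hF hy (a := c) (b := 1) (by rw [cube_one hc, cube_one one_ne_zero])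
  rwa [one_smul] at this

theorem top_of_tau {K : Subgroup (PSU 6 F4 2)} (h : ∀ y, hermForm 6 F4 2 y y = 0 → tau hF y ∈ K) : K = ⊤ := by
  set S : Set (PSU 6 F4 2) := {t | ∃ y, hermForm 6 F4 2 y y = 0 ∧ t = tau hF y} with hS
  have hN : (Subgroup.closure S).Normal := by
    constructor
    intro t ht g
    obtain ⟨g, rfl⟩ := pr_surjective g
    induction ht using Subgroup.closure_induction with
    | mem t ht =>
      obtain ⟨y, hy, rfl⟩ := ht
      rw [conj_tau hF g hy]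
      exact Subgroup.subset_closure ⟨_, iso_act g hy, rfl⟩
    | one => rw [mul_one, mul_inv_cancel]; exact one_mem _
    | mul a b _ _ ha hb =>
      have : pr 6 F4 2 g * (a * b) * (pr 6 F4 2 g)⁻¹ = (pr 6 F4 2 g * a * (pr 6 F4 2 g)⁻¹) *
          (pr 6 F4 2 g * b * (pr 6 F4 2 g)⁻¹) := by group
      rw [this]
      exact mul_mem ha hb
    | inv a _ ha =>
      have : pr 6 F4 2 g * a⁻¹ * (pr 6 F4 2 g)⁻¹ = (pr 6 F4 2 g * a * (pr 6 F4 2 g)⁻¹)⁻¹ := by group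
      rw [this]
      exact inv_mem ha
  rcases hN.eq_bot_or_eq_top with h1 | h1
  · exfalso
    have h2 : tau hF f0 ∈ Subgroup.closure S := Subgroup.subset_closure ⟨f0, f0_iso, rfl⟩
    rw [h1, Subgroup.mem_bot, tau_eq_one_iff hF (by norm_num) f0_iso] at h2
    have := congrFun h2 1
    exact absurd this (by decide)
  · rw [eq_top_iff, ← h1, Subgroup.closure_le]
    rintro t ⟨y, hy, rfl⟩
    exact h y hy

theorem tau_of_reach {K : Subgroup (PSU 6 F4 2)} (h0 : tau hF f0 ∈ K)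
    (h : ∀ y, hermForm 6 F4 2 y y = 0 → ∃ k : SU 6 F4 2, pr 6 F4 2 k ∈ K ∧ ∃ c : F4, act k y = c • f0) :
    K = ⊤ := by
  refine top_of_tau fun y hy => ?_
  obtain ⟨k, hk, c, hc⟩ := h y hy
  by_cases hc0 : c = 0
  · rw [hc0, zero_smul, act_eq_zero] at hc
    rw [hc, tau_zero]
    exact one_mem _
  · have h1 := conj_tau hF k hy
    rw [hc, tau_smul f0_iso hc0] at h1
    have h2 : tau hF y = (pr 6 F4 2 k)⁻¹ * tau hF f0 * pr 6 F4 2 k := by rw [← h1]; group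
    rw [h2]
    exact mul_mem (mul_mem (inv_mem hk) h0) hk

/-- **first generating pair** -/
theorem gen1 {K : Subgroup (PSU 6 F4 2)} (h1 : pr 6 F4 2 x1 ∈ K) (h2 : tau hF g0 ∈ K) : K = ⊤ := by
  refine tau_of_reach (by rw [tau_f0]; exact pow_mem h1 5) ?_
  have key : ∀ (g : SU 6 F4 2) (M : M6), (∀ y, act g y = M *ᵥ y) → pr 6 F4 2 g ∈ K → ∀ y : Fin 6 → F4,
      (∃ k : SU 6 F4 2, pr 6 F4 2 k ∈ K ∧ ∃ c : F4, act k (M *ᵥ y) = c • f0) →
      ∃ k : SU 6 F4 2, pr 6 F4 2 k ∈ K ∧ ∃ c : F4, act k y = c • f0 := by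
    rintro g M hM hg y ⟨k, hk, c, hc⟩
    refine ⟨k * g, by rw [map_mul]; exact mul_mem hk hg, c, ?_⟩
    rw [act_mul, hM, hc]
  refine desc1 (fun c => ⟨1, by rw [map_one]; exact one_mem _, c, act_one _⟩) (key x1 X act_x1 h1)
    (key x1⁻¹ Xi act_x1_inv (by rw [map_inv]; exact inv_mem h1)) (key (T hF g0) Tg act_Tg h2)

section semi

variable {ρ : F4 ≃+* F4} (hρ : ∀ a, ρ a = a ^ 2)

/-- the matrix `J` as an element of `GU` -/
def J0 : Cfsg.GU 6 F4 2 := ⟨⟨Jm, Jm, by decide +kernel, by decide +kernel⟩, fun x y => herm_pres Jm_st x y⟩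

theorem gm_J0 : gm J0 = Jm := rfl

theorem Jm_X : Jm * X.map frob = Y * Jm := by decide +kernel

theorem Jm_Jm : Jm * Jm = 1 := by decide +kernel

include hρ

theorem act_y1 (y : Fin 6 → F4) : act (semiConj J0 ρ x1) y = Y *ᵥ y := by
  have h1 : ∀ x : Fin 6 → F4, (fun i => ρ (x i)) = fun i => frob (x i) := fun x => funext fun i => hρ _
  have h2 := act_semiConj J0 ρ x1 (fun i => frob ((Jm *ᵥ y) i))
  have h3 : (fun i => ρ ((fun i => frob ((Jm *ᵥ y) i)) i)) = Jm *ᵥ y := by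
    funext i
    change ρ (frob ((Jm *ᵥ y) i)) = _
    rw [hρ]
    change ((Jm *ᵥ y) i ^ 2) ^ 2 = _
    generalize (Jm *ᵥ y) i = a
    revert a
    decide
  have h4 : (fun i => ρ (act x1 (fun i => frob ((Jm *ᵥ y) i)) i)) = X.map frob *ᵥ (Jm *ᵥ y) := by
    rw [h1]
    funext i
    rw [act_x1]
    have := RingHom.map_mulVec frob X (fun i => frob ((Jm *ᵥ y) i)) i
    rw [this]
    congr 2
    funext j
    change frob (frob ((Jm *ᵥ y) j)) = _
    change ((Jm *ᵥ y) j ^ 2) ^ 2 = _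
    generalize (Jm *ᵥ y) j = a
    revert a
    decide
  rw [h3, h4, gm_J0, mulVec_mulVec, Jm_Jm, one_mulVec, mulVec_mulVec, mulVec_mulVec, Jm_X, Matrix.mul_assoc,
    Jm_Jm, Matrix.mul_one] at h2
  exact h2

/-- **second generating pair** -/
theorem gen2 {K : Subgroup (PSU 6 F4 2)} (h1 : pr 6 F4 2 x1 ∈ K) (h2 : ∀ k ∈ K, toAut J0 ρ k ∈ K) : K = ⊤ := by
  refine tau_of_reach (by rw [tau_f0]; exact pow_mem h1 5) ?_
  have key : ∀ (g : SU 6 F4 2) (M : M6), (∀ y, act g y = M *ᵥ y) → pr 6 F4 2 g ∈ K → ∀ y : Fin 6 → F4,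
      (∃ k : SU 6 F4 2, pr 6 F4 2 k ∈ K ∧ ∃ c : F4, act k (M *ᵥ y) = c • f0) →
      ∃ k : SU 6 F4 2, pr 6 F4 2 k ∈ K ∧ ∃ c : F4, act k y = c • f0 := by
    rintro g M hM hg y ⟨k, hk, c, hc⟩
    refine ⟨k * g, by rw [map_mul]; exact mul_mem hk hg, c, ?_⟩
    rw [act_mul, hM, hc]
  have h3 : pr 6 F4 2 (semiConj J0 ρ x1) ∈ K := by
    rw [← toAut_pr]
    exact h2 _ h1
  refine desc2 (fun c => ⟨1, by rw [map_one]; exact one_mem _, c, act_one _⟩) (key x1 X act_x1 h1)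
    (key x1⁻¹ Xi act_x1_inv (by rw [map_inv]; exact inv_mem h1)) (key _ Y (act_y1 hρ) h3)
    (key (semiConj J0 ρ x1)⁻¹ Yi (act_inv_of (act_y1 hρ) Y_Yi) (by rw [map_inv]; exact inv_mem h3))

end semi

end Cfsg.Agent.H62.Spr.U62
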